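import Mathlib
import Cfsg.Agent.Lib.Helper44.FW.Defs

/-!
# Project FW (S3211): package [CY]

The square roots of `t₀ = x₀ (n x₀ n⁻¹)` inside `L₁L₂` are at most four.
-/

set_option autoImplicit false

namespace Cfsg.Agent.Lib.Helper71.FW

universe u

/-- Elements of the join of two elementwise-commuting subgroups are products. -/
theorem mem_sup_comm_fw_h71 {G : Type u} [Group G] {L₁ L₂ : Subgroup G}
    (hc : ∀ x ∈ L₁, ∀ y ∈ L₂, x * y = y * x) {r : G} (hr : r ∈ L₁ ⊔ L₂) :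
    ∃ a ∈ L₁, ∃ b ∈ L₂, r = a * b := by
  rw [Subgroup.sup_eq_closure] at hr
  induction hr using Subgroup.closure_induction with
  | mem x hx =>
    rcases hx with hx | hx
    · exact ⟨x, hx, 1, L₂.one_mem, (mul_one x).symm⟩
    · exact ⟨1, L₁.one_mem, x, hx, (one_mul x).symm⟩
  | one => exact ⟨1, L₁.one_mem, 1, L₂.one_mem, (mul_one 1).symm⟩
  | mul x y _ _ hx hy =>
    obtain ⟨a, ha, b, hb, rfl⟩ := hx
    obtain ⟨a', ha', b', hb', rfl⟩ := hy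
    refine ⟨a * a', L₁.mul_mem ha ha', b * b', L₂.mul_mem hb hb', ?_⟩
    have h := hc a' ha' b hb
    calc a * b * (a' * b') = a * (b * a') * b' := by group
      _ = a * (a' * b) * b' := by rw [h]
      _ = a * a' * (b * b') := by group
  | inv x _ hx =>
    obtain ⟨a, ha, b, hb, rfl⟩ := hx
    refine ⟨a⁻¹, L₁.inv_mem ha, b⁻¹, L₂.inv_mem hb, ?_⟩
    rw [mul_inv_rev]
    exact (hc a⁻¹ (L₁.inv_mem ha) b⁻¹ (L₂.inv_mem hb)).symm

/-- **[CY]**. -/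
theorem pkgCY : Cfsg.Agent.Lib.Helper44.FW.PkgCY.{u} := by
  intro G _ L₁ L₂ j n cfg h1 h2 x₀ hx₀ hx₀2
  classical
  have hjL : j ∈ L₁ ⊓ L₂ := by rw [cfg.meet]; exact Subgroup.mem_zpowers j
  have hj1 : j ∈ L₁ := (Subgroup.mem_inf.mp hjL).1
  have hj2 : j ∈ L₂ := (Subgroup.mem_inf.mp hjL).2
  have hjj : j * j = 1 := by
    have := pow_orderOf_eq_one j
    rw [cfg.ord, pow_two] at this
    exact this
  have hjinv : j⁻¹ = j := inv_eq_of_mul_eq_one_left hjj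
  have hy₀L : n * x₀ * n⁻¹ ∈ L₂ := by
    rw [← cfg.swap]
    exact ⟨x₀, hx₀, rfl⟩
  have hnj : n * j = j * n := by
    have := Subgroup.mem_centralizer_iff.mp cfg.hn j (Set.mem_singleton j)
    exact this.symm
  have hy₀2 : (n * x₀ * n⁻¹) ^ 2 = j := by
    rw [pow_two]
    calc n * x₀ * n⁻¹ * (n * x₀ * n⁻¹) = n * (x₀ * x₀) * n⁻¹ := by group
      _ = n * j * n⁻¹ := by rw [← pow_two, hx₀2]
      _ = j := by rw [hnj]; group
  generalize n * x₀ * n⁻¹ = y₀ at hy₀L hy₀2 ⊢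
  have hmeet : ∀ z, z ∈ L₁ → z ∈ L₂ → z = 1 ∨ z = j := by
    intro z hz1 hz2
    have hz : z ∈ Subgroup.zpowers j := by rw [← cfg.meet]; exact ⟨hz1, hz2⟩
    obtain ⟨k, rfl⟩ := Subgroup.mem_zpowers_iff.mp hz
    rcases Int.even_or_odd k with ⟨m, rfl⟩ | ⟨m, rfl⟩
    · left
      rw [← two_mul, zpow_mul, zpow_two, hjj, one_zpow]
    · right
      rw [zpow_add, zpow_mul, zpow_two, hjj, one_zpow, one_mul, zpow_one]
  -- two solutions of the same type differ by `j`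
  have key : ∀ x ∈ L₁, x ^ 2 = j → ∀ y ∈ L₂, y ^ 2 = j → ∀ u ∈ L₁, ∀ v ∈ L₂, ∀ u' ∈ L₁,
      ∀ v' ∈ L₂, u ^ 2 = x → v ^ 2 = y → u' ^ 2 = x → v' ^ 2 = y →
      u' * v' = u * v ∨ u' * v' = u * v * j := by
    intro x hx hx2 y hy hy2 u hu v hv u' hu' v' hv' huu hvv huu' hvv'
    have hjv : j * v = v * j := cfg.comm j hj1 v hv
    rcases h1.sq x hx hx2 u hu u' hu' huu huu' with e1 | e1 <;>
      rcases h2.sq y hy hy2 v hv v' hv' hvv hvv' with e2 | e2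
    · left; rw [e1, e2]
    · right; rw [e1, e2, mul_assoc]
    · right; rw [e1, e2, mul_assoc, hjv, mul_assoc]
    · left
      rw [e1, e2]
      calc u * j * (v * j) = u * (j * v) * j := by group
        _ = u * (v * j) * j := by rw [hjv]
        _ = u * v * (j * j) := by group
        _ = u * v := by rw [hjj, mul_one]
  have hxj2 : (x₀ * j) ^ 2 = j := by
    have hc' : x₀ * j = j * x₀ := cfg.comm x₀ hx₀ j hj2
    rw [pow_two]
    calc x₀ * j * (x₀ * j) = x₀ * (j * x₀) * j := by group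
      _ = x₀ * (x₀ * j) * j := by rw [hc']
      _ = x₀ * x₀ * (j * j) := by group
      _ = j := by rw [← pow_two, hx₀2, hjj, mul_one]
  have hyj2 : (y₀ * j) ^ 2 = j := by
    have hc' : j * y₀ = y₀ * j := cfg.comm j hj1 y₀ hy₀L
    rw [pow_two]
    calc y₀ * j * (y₀ * j) = y₀ * (j * y₀) * j := by group
      _ = y₀ * (y₀ * j) * j := by rw [hc']
      _ = y₀ * y₀ * (j * j) := by group
      _ = j := by rw [← pow_two, hy₀2, hjj, mul_one]
  let Pα : G → Prop := fun r => ∃ u ∈ L₁, ∃ v ∈ L₂, r = u * v ∧ u ^ 2 = x₀ ∧ v ^ 2 = y₀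
  let Pβ : G → Prop := fun r => ∃ u ∈ L₁, ∃ v ∈ L₂, r = u * v ∧ u ^ 2 = x₀ * j ∧ v ^ 2 = y₀ * j
  let a : G := if h : ∃ r, Pα r then h.choose else 1
  let b : G := if h : ∃ r, Pβ r then h.choose else 1
  refine ⟨a, b, ?_⟩
  intro r hr hr2
  obtain ⟨u, hu, v, hv, rfl⟩ := mem_sup_comm_fw_h71 cfg.comm hr
  have huv : u * v = v * u := cfg.comm u hu v hv
  have hsq : u ^ 2 * v ^ 2 = x₀ * y₀ := by
    rw [← hr2]
    calc u ^ 2 * v ^ 2 = u * (u * v) * v := by simp only [pow_two, mul_assoc]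
      _ = u * (v * u) * v := by rw [huv]
      _ = (u * v) ^ 2 := by simp only [pow_two, mul_assoc]
  have hδ : x₀⁻¹ * u ^ 2 = y₀ * (v ^ 2)⁻¹ := by
    rw [eq_mul_inv_iff_mul_eq, mul_assoc, hsq, inv_mul_cancel_left]
  have hδ2 : y₀ * (v ^ 2)⁻¹ ∈ L₂ := L₂.mul_mem hy₀L (L₂.inv_mem (L₂.pow_mem hv 2))
  rcases hmeet (x₀⁻¹ * u ^ 2) (L₁.mul_mem (L₁.inv_mem hx₀) (L₁.pow_mem hu 2))
      (by rw [hδ]; exact hδ2) with h | h
  · have hu2 : u ^ 2 = x₀ := (inv_mul_eq_one.mp h).symm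
    have hv2 : v ^ 2 = y₀ := by
      have h' : y₀ * (v ^ 2)⁻¹ = 1 := by rw [← hδ]; exact h
      exact (mul_inv_eq_one.mp h').symm
    have hex : ∃ r, Pα r := ⟨u * v, u, hu, v, hv, rfl, hu2, hv2⟩
    have ha : a = hex.choose := dif_pos hex
    obtain ⟨u₀, hu₀, v₀, hv₀, hr₀, hu₀2, hv₀2⟩ := hex.choose_spec
    rcases key x₀ hx₀ hx₀2 y₀ hy₀L hy₀2 u₀ hu₀ v₀ hv₀ u hu v hv hu₀2 hv₀2 hu2 hv2 with h' | h'
    · left; rw [ha, hr₀]; exact h'
    · right; left; rw [ha, hr₀]; exact h'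
  · have hu2 : u ^ 2 = x₀ * j := by rw [← h, mul_inv_cancel_left]
    have hv2 : v ^ 2 = y₀ * j := by
      have h' : y₀ * (v ^ 2)⁻¹ = j := by rw [← hδ]; exact h
      have h3 : v ^ 2 = j⁻¹ * y₀ := by
        rw [← h', mul_inv_rev, inv_inv, inv_mul_cancel_right]
      rw [h3, hjinv]
      exact cfg.comm j hj1 y₀ hy₀L
    have hex : ∃ r, Pβ r := ⟨u * v, u, hu, v, hv, rfl, hu2, hv2⟩
    have hb : b = hex.choose := dif_pos hex
    obtain ⟨u₀, hu₀, v₀, hv₀, hr₀, hu₀2, hv₀2⟩ := hex.choose_spec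
    rcases key (x₀ * j) (L₁.mul_mem hx₀ hj1) hxj2 (y₀ * j) (L₂.mul_mem hy₀L hj2) hyj2
      u₀ hu₀ v₀ hv₀ u hu v hv hu₀2 hv₀2 hu2 hv2 with h' | h'
    · right; right; left; rw [hb, hr₀]; exact h'
    · right; right; right; rw [hb, hr₀]; exact h'

end Cfsg.Agent.Lib.Helper71.FW
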